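import Cfsg.Agent.H211.Her.PSUNum
import Cfsg.Agent.H60.HerSpor
import Cfsg.Agent.H50.HerGoal
import Cfsg.Agent.H175.BdSU
import Cfsg.Agent.H868.HerBridge
import Cfsg.Agent.H912.MultChar
import Cfsg.Agent.S0280
import Cfsg.Agent.S0815
import Cfsg.Agent.S2089

/-!
# Hering's theorem: the unitary groups in cross characteristic (task 1510, for S3695)
-/

set_option autoImplicit false
set_option maxRecDepth 100000

namespace Cfsg.Agent.H211.Her.PSU

open Cfsg Cfsg.Agent.H50.Her

universe u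

variable {p d b r R : ℕ} {L V S : Type u} [Group L] [AddCommGroup V] [Module (ZMod p) V] [Group S] {π : L →* S}
  {ρ : L →* (V ≃ₗ[ZMod p] V)}

theorem Rel.prime {p d r R : ℕ} (h : Rel p d r R) : r.Prime := by
  rcases h with h | ⟨rfl, -, h⟩
  · exact h.prime
  · rcases h with ⟨-, rfl | rfl | rfl⟩ | ⟨rfl, -⟩ <;> norm_num

theorem Rel.succ_le {p d r R : ℕ} (h : Rel p d r R) : d + 1 ≤ r := by
  rcases h with h | ⟨rfl, -, -⟩
  · rcases h.large with ⟨-, h⟩ | ⟨-, h⟩ <;> omega
  · exact le_rfl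

/-- the order of the group, transported -/
theorem card_eq {K : Type} [Field K] [Fintype K] {n q : ℕ} (hK : Fintype.card K = q ^ 2) (hn3 : 3 ≤ n)
    (e : S ≃* PSU n K q) :
    Nat.gcd n (q + 1) * ((q + 1) * Nat.card S) = q ^ (n * (n - 1) / 2) * ∏ i ∈ Finset.range n, fac q i := by
  rw [Nat.card_congr e.toEquiv, S0280.result hK n (by omega)]
  rfl

theorem card_aut {K : Type} [Field K] [Fintype K] {n q t f : ℕ} (ht : t.Prime) (hf : 1 ≤ f) (hq : q = t ^ f)
    (hK : Fintype.card K = q ^ 2) (hn3 : 3 ≤ n) (hnq : ¬ (n = 3 ∧ q = 2)) (e : S ≃* PSU n K q) :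
    Nat.card (MulAut S) = Nat.gcd n (q + 1) * (2 * f) * Nat.card S := by
  have := Fact.mk ht
  rw [Nat.card_congr (MulAut.congr e).toEquiv, Nat.card_congr e.toEquiv]
  exact S0815.result t f hf hq hK n hn3 hnq

/-- a prime divisor larger than the characteristic divides one of the factors -/
theorem exists_factor {K : Type} [Field K] [Fintype K] {n q t f : ℕ} (ht : t.Prime) (hq : q = t ^ f)
    (hK : Fintype.card K = q ^ 2) (hn3 : 3 ≤ n) (e : S ≃* PSU n K q) (hrp : r.Prime) (hrt : t < r)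
    (hr : r ∣ Nat.card S) : ∃ i, i < n ∧ r ∣ fac q i := by
  have h1 : r ∣ q ^ (n * (n - 1) / 2) * ∏ i ∈ Finset.range n, fac q i := by
    rw [← card_eq hK hn3 e]
    exact Dvd.dvd.mul_left (Dvd.dvd.mul_left hr _) _
  rcases hrp.dvd_mul.1 h1 with h | h
  · exfalso
    have h2 := hrp.dvd_of_dvd_pow h
    rw [hq] at h2
    have h3 := (Nat.prime_dvd_prime_iff_eq hrp ht).1 (hrp.dvd_of_dvd_pow h2)
    omega
  · obtain ⟨i, hi, hi'⟩ := (Prime.dvd_finsetProd_iff hrp.prime _).1 h
    exact ⟨i, Finset.mem_range.1 hi, hi'⟩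

/-- the generic case, from the degree bound -/
theorem core (h : Cfg p d b L V S π ρ) (hR : Rel p d r R) (hr : r ∣ Nat.card S)
    {t f : ℕ} (ht : t.Prime) (htp : t ≠ p) (hf : 1 ≤ f) {K : Type} [Field K] [Fintype K] {n q : ℕ} (hq : q = t ^ f)
    (hK : Fintype.card K = q ^ 2) (hn3 : 3 ≤ n) (hnq : ¬ (n = 3 ∧ q = 2)) (h42 : ¬ (n = 4 ∧ q = 2))
    (e : S ≃* PSU n K q) (hD : (q - 1) * q ^ (n - 2) * b ≤ d) : False := by
  have hrp := Rel.prime hR
  have hrd := Rel.succ_le hR
  have hb := h.b_pos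
  have hDd : (q - 1) * q ^ (n - 2) ≤ d := (Nat.le_mul_of_pos_right _ hb).trans hD
  have htf : t ≤ q := by rw [hq]; exact Nat.le_self_pow (by omega) t
  have hq2 : 2 ≤ q := ht.two_le.trans htf
  have hq1 := succ_le_D hq2 hn3 hnq
  have hDr : (q - 1) * q ^ (n - 2) < r := by omega
  -- the factor
  obtain ⟨i, hi, hri⟩ := exists_factor ht hq hK hn3 e hrp (by omega) hr
  have hlast : Even i ∧ i + 1 = n := by
    by_contra hcon
    have := small_factor hq2 hn3 hnq h42 hrp hi (fun h1 h2 => hcon ⟨h1, h2⟩) hri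
    omega
  have hodd : Odd n := by rw [← hlast.2]; exact hlast.1.add_one
  have hrn : r ∣ q ^ n + 1 := by
    unfold fac at hri
    rwa [if_pos hlast.1, hlast.2] at hri
  have hΦ := last_factor hq2 hn3 hnq hrp hodd hrn hDr
  rcases hR with hL | ⟨hrd1, hRd, hE⟩
  · rcases hL.large with ⟨-, h1⟩ | ⟨hRr, hrd1⟩
    · exact not_two_D hq2 hn3 hΦ (by omega)
    · -- `r ^ 2` divides `|Aut S|`
      have h1 := h.R_dvd hL hb
      rw [hRr] at h1
      have h2 : (q + 1) * Nat.card (MulAut S) = (2 * f) * (q ^ (n * (n - 1) / 2) * ∏ i ∈ Finset.range n, fac q i) := by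
        rw [← card_eq hK hn3 e, card_aut ht hf hq hK hn3 hnq e]
        ring
      have h3 : r ^ 2 ∣ (2 * f) * (q ^ (n * (n - 1) / 2) * ∏ i ∈ Finset.range n, fac q i) := by
        rw [← h2]; exact Dvd.dvd.mul_left h1 _
      have hf2 : 2 * f < r := by
        have h4 : f < 2 ^ f := Nat.lt_two_pow_self
        have h5 : 2 ^ f ≤ q := by rw [hq]; exact Nat.pow_le_pow_left ht.two_le f
        have h6 : q ≤ q ^ (n - 2) := Nat.le_self_pow (by omega) q
        rcases Nat.lt_or_ge q 3 with h7 | h7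
        · obtain rfl : q = 2 := by omega
          have h8 : 2 ^ 2 ≤ 2 ^ (n - 2) := Nat.pow_le_pow_right (by omega) (by omega)
          omega
        · have h8 : 2 * q ^ (n - 2) ≤ (q - 1) * q ^ (n - 2) := Nat.mul_le_mul_right _ (by omega)
          omega
      have c1 : Nat.Coprime (r ^ 2) (2 * f) := by
        apply Nat.Coprime.pow_left
        rw [Nat.Prime.coprime_iff_not_dvd hrp]
        intro h4
        have := Nat.le_of_dvd (by omega) h4
        omega
      have c2 : Nat.Coprime (r ^ 2) (q ^ (n * (n - 1) / 2)) := by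
        apply Nat.Coprime.pow_left
        rw [Nat.Prime.coprime_iff_not_dvd hrp]
        intro h4
        have h5 := hrp.dvd_of_dvd_pow h4
        have := Nat.le_of_dvd (by omega) h5
        omega
      have h4 := c2.dvd_of_dvd_mul_left (c1.dvd_of_dvd_mul_left h3)
      obtain ⟨j, rfl⟩ : ∃ j, n = j + 1 := ⟨n - 1, by omega⟩
      have hij : i = j := by omega
      rw [Finset.prod_range_succ] at h4
      have c3 : Nat.Coprime (r ^ 2) (∏ i ∈ Finset.range j, fac q i) := by
        apply Nat.Coprime.pow_left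
        refine Nat.Coprime.prod_right fun k hk => ?_
        rw [Finset.mem_range] at hk
        rw [Nat.Prime.coprime_iff_not_dvd hrp]
        intro h5
        have := small_factor hq2 hn3 hnq h42 hrp (show k < j + 1 by omega) (by omega) h5
        omega
      have h5 := c3.dvd_of_dvd_mul_left h4
      rw [← hij] at h5
      unfold fac at h5
      rw [if_pos hlast.1, hlast.2, hΦ, pow_two] at h5
      have h6 := Nat.dvd_of_mul_dvd_mul_right hrp.pos h5
      have := Nat.le_of_dvd (by omega) h6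
      omega
  · subst hrd1
    obtain ⟨rfl, rfl, rfl, rfl⟩ := exc_cases ht htp hf hq hn3 hnq hodd hE hΦ
    have hb1 : b = 1 := by
      norm_num at hD
      omega
    subst hb1
    have ht3 : t = 3 := by
      have h1 : t ∣ 3 := by rw [hq]; exact dvd_pow_self t (by omega)
      exact (Nat.prime_dvd_prime_iff_eq ht Nat.prime_three).1 h1
    subst ht3
    have hf1 : f = 1 := by
      have : (3 : ℕ) ^ 1 = 3 ^ f := by rw [pow_one]; exact hq
      exact (Nat.pow_right_injective (le_refl 2 |>.trans (by norm_num)) this).symm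
    subst hf1
    have h1 := card_eq hK hn3 e
    have h2 := card_aut ht hf hq hK hn3 hnq e
    have h3 : Nat.card S = 6048 := by
      simp only [Finset.prod_range_succ, Finset.prod_range_zero, fac] at h1
      norm_num at h1
      have h4 : Nat.gcd 3 4 = 1 := by norm_num
      omega
    rw [h3] at h2
    norm_num at h2
    have h4 := h.num
    rw [h2] at h4
    norm_num at h4

/-- `PSU_4(2)` -/
theorem row42 (h : Cfg p d b L V S π ρ) (hd : 3 ≤ d) (hR : Rel p d r R) (hr : r ∣ Nat.card S)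
    {K : Type} [Field K] [Fintype K] (hK : Fintype.card K = 2 ^ 2) (e : S ≃* PSU 4 K 2) : False := by
  have hrp := Rel.prime hR
  have hrd := Rel.succ_le hR
  have h1 := card_eq hK (by norm_num) e
  have h2 := card_aut (f := 1) Nat.prime_two le_rfl (by norm_num) hK (by norm_num) (by norm_num) e
  simp only [Finset.prod_range_succ, Finset.prod_range_zero, fac] at h1
  norm_num [Nat.even_iff] at h1
  have h3 : Nat.card S = 25920 := by
    have h4 : Nat.gcd 4 3 = 1 := by norm_num
    omega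
  rw [h3] at h2 hr
  norm_num at h2
  have hr5 : r = 5 := by
    have h4 : r ∣ 2 ^ 6 * 3 ^ 4 * 5 := by
      have e1 : (2 : ℕ) ^ 6 * 3 ^ 4 * 5 = 25920 := by norm_num
      rwa [e1]
    rcases hrp.dvd_mul.1 h4 with h4 | h4
    · rcases hrp.dvd_mul.1 h4 with h4 | h4
      · have := (Nat.prime_dvd_prime_iff_eq hrp Nat.prime_two).1 (hrp.dvd_of_dvd_pow h4)
        omega
      · have := (Nat.prime_dvd_prime_iff_eq hrp Nat.prime_three).1 (hrp.dvd_of_dvd_pow h4)
        omega
    · exact (Nat.prime_dvd_prime_iff_eq hrp (by norm_num)).1 h4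
  rcases hR with hL | ⟨hrd1, -, hE⟩
  · have h5 := h.R_dvd hL h.b_pos
    rcases hL.large with ⟨-, h6⟩ | ⟨hRr, h6⟩
    · omega
    · rw [hRr, hr5, h2] at h5
      norm_num at h5
  · rcases hE with ⟨-, h6 | h6 | h6⟩ | ⟨h6, -⟩ <;> omega

/-- the exceptional pairs for `d = 6`: the order does not divide `|GL_6(p)|` -/
theorem exc_six {n : ℕ} (hp2 : 2 ^ 14 ∣ n ∨ p ≠ 3) (h3 : 3 ^ 6 ∣ n) (hE : Exc p d) (hdvd : n ∣ glCard p d)
    (h6 : d = 6) : False := by
  subst h6
  rcases hE with ⟨-, h | h | h⟩ | ⟨-, h | h⟩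
  · omega
  · omega
  · omega
  · subst h
    rcases hp2 with h2 | h2
    · have := h2.trans hdvd
      revert this
      decide +kernel
    · exact h2 rfl
  · subst h
    have := h3.trans hdvd
    revert this
    decide +kernel

/-- `PSU_4(3)` -/
theorem row43 (h : Cfg p d b L V S π ρ) (hd : 3 ≤ d) (hR : Rel p d r R) (hr : r ∣ Nat.card S) (hp3 : p ≠ 3)
    {K : Type} [Field K] [Fintype K] (hK : Fintype.card K = 3 ^ 2) (e : S ≃* PSU 4 K 3) : False := by
  have hrp := Rel.prime hR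
  have h1 := card_eq hK (by norm_num) e
  have h2 := card_aut (f := 1) Nat.prime_three le_rfl (by norm_num) hK (by norm_num) (by norm_num) e
  simp only [Finset.prod_range_succ, Finset.prod_range_zero, fac] at h1
  norm_num [Nat.even_iff] at h1
  have h3 : Nat.card S = 3265920 := by omega
  have h4 := H60.HerSpor.dvd_gl h
  rw [h3] at h2 hr h4
  norm_num at h2
  rcases hR with hL | ⟨hrd1, -, hE⟩
  · exact absurd (num_psu43 h.prime hd hL hr (m' := Nat.card (MulAut S)) (by rw [h2]) h.b_pos h.b_dvd h.b_lt h.num h4)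
      (by simp)
  · have hr7 : r ≤ 7 := by
      have h5 : r ∣ 2 ^ 7 * 3 ^ 6 * 5 * 7 := by
        have e1 : (2 : ℕ) ^ 7 * 3 ^ 6 * 5 * 7 = 3265920 := by norm_num
        rwa [e1]
      rcases hrp.dvd_mul.1 h5 with h5 | h5
      · rcases hrp.dvd_mul.1 h5 with h5 | h5
        · rcases hrp.dvd_mul.1 h5 with h5 | h5
          · have := (Nat.prime_dvd_prime_iff_eq hrp Nat.prime_two).1 (hrp.dvd_of_dvd_pow h5)
            omega
          · have := (Nat.prime_dvd_prime_iff_eq hrp Nat.prime_three).1 (hrp.dvd_of_dvd_pow h5)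
            omega
        · have := Nat.le_of_dvd (by norm_num) h5
          omega
      · exact Nat.le_of_dvd (by norm_num) h5
    refine exc_six (Or.inr hp3) (show 3 ^ 6 ∣ 3265920 by norm_num) hE h4 ?_
    rcases hE with ⟨-, h6 | h6 | h6⟩ | ⟨h6, -⟩ <;> omega

/-- `PSU_6(2)` -/
theorem row62 (h : Cfg p d b L V S π ρ) (hd : 3 ≤ d) (hR : Rel p d r R) (hr : r ∣ Nat.card S) (hp2 : p ≠ 2)
    {K : Type} [Field K] [Fintype K] (hK : Fintype.card K = 2 ^ 2) (e : S ≃* PSU 6 K 2) : False := by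
  have h1 := card_eq hK (by norm_num) e
  have h2 := card_aut (f := 1) Nat.prime_two le_rfl (by norm_num) hK (by norm_num) (by norm_num) e
  simp only [Finset.prod_range_succ, Finset.prod_range_zero, fac] at h1
  norm_num [Nat.even_iff] at h1
  have h3 : Nat.card S = 9196830720 := by omega
  have h4 := H60.HerSpor.dvd_gl h
  rw [h3] at h2 hr h4
  norm_num at h2
  rcases hR with hL | ⟨hrd1, -, hE⟩
  · exact absurd (num_psu62 h.prime hd hL hr (m' := Nat.card (MulAut S)) (by rw [h2]) h.b_pos h.b_dvd h.b_lt h.num h4)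
      (by simp)
  · refine exc_six (Or.inl (by norm_num)) (show 3 ^ 6 ∣ 9196830720 by norm_num) hE h4 ?_
    rcases hE with ⟨h6, -⟩ | ⟨h6, -⟩
    · exact absurd h6 hp2
    · exact h6

/-- **Row `PSU_n(q)`**, from the bridge. -/
theorem row_psu_of (h : Cfg p d b L V S π ρ) (hd : 3 ≤ d) (hR : Rel p d r R) (hr : r ∣ Nat.card S)
    {t : ℕ} (ht : t.Prime) (htp : t ≠ p)
    (hbr : ∀ D : ℕ, (Nat.card (Subgroup.center L)).Coprime t →
      (∀ (F : Type u) [Field F] [CharP F p], H912.Bd.Bd F t D S) → D * b ≤ d)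
    {K : Type} [Field K] [Fintype K] [CharP K t] {n q : ℕ}
    (hK : Fintype.card K = q ^ 2) (hn3 : 3 ≤ n) (hnq : ¬ (n = 3 ∧ q = 2))
    (e : S ≃* PSU n K q) : False := by
  have := Fact.mk ht
  obtain ⟨f, hq⟩ : ∃ f, q = t ^ f := by
    obtain ⟨k, -, hk⟩ := FiniteField.card K t
    have h1 : q ∣ t ^ (k : ℕ) := by
      rw [← hk, hK]
      exact dvd_pow_self q two_ne_zero
    obtain ⟨f, -, hf⟩ := (Nat.dvd_prime_pow ht).1 h1
    exact ⟨f, hf⟩
  have hf : 1 ≤ f := by
    rcases Nat.eq_zero_or_pos f with h0 | h0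
    · exfalso
      rw [h0, pow_zero] at hq
      have := Fintype.one_lt_card (α := K)
      rw [hK, hq] at this
      omega
    · exact h0
  -- the characteristic
  have htq : ∀ s, s.Prime → ∀ k, q = s ^ k → t = s := by
    intro s hs k hk
    have h1 : t ∣ s ^ k := by
      rw [← hk, hq]
      exact dvd_pow_self t (by omega)
    exact (Nat.prime_dvd_prime_iff_eq ht hs).1 (ht.dvd_of_dvd_pow h1)
  by_cases h42 : n = 4 ∧ q = 2
  · obtain ⟨rfl, rfl⟩ := h42
    exact row42 h hd hR hr hK e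
  by_cases h43 : n = 4 ∧ q = 3
  · obtain ⟨rfl, rfl⟩ := h43
    exact row43 h hd hR hr (fun h1 => htp (by rw [h1, htq 3 Nat.prime_three 1 (by norm_num)])) hK e
  by_cases h62 : n = 6 ∧ q = 2
  · obtain ⟨rfl, rfl⟩ := h62
    exact row62 h hd hR hr (fun h1 => htp (by rw [h1, htq 2 Nat.prime_two 1 (by norm_num)])) hK e
  refine core h hR hr ht htp hf hq hK hn3 hnq h42 e (hbr _ ?_ ?_)
  · have h1 : H912.Bd.NoR.{u} t S := by
      refine H912.Bd.NoR.congr (H912.Bd.NoR.of_cyclic (S2089.result n q hK hn3 hnq ?_) ?_) e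
      · simp only [Set.mem_insert_iff, Set.mem_singleton_iff, Prod.mk.injEq, not_or]
        exact ⟨h42, h43, h62⟩
      · refine Nat.Coprime.coprime_dvd_left (Nat.gcd_dvd_right n (q + 1)) ?_
        rw [hq, Nat.coprime_comm, Nat.Prime.coprime_iff_not_dvd ht]
        intro h1
        have h2 : t ∣ t ^ f := dvd_pow_self t (by omega)
        have h3 := (Nat.dvd_add_right h2).1 h1
        exact ht.one_lt.ne' (Nat.dvd_one.1 h3)
    have h2 := h1 L h.perf π h.surj (by rw [h.cent])
    rwa [h.cent] at h2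
  · intro F _ _
    refine H175.BdSU.bd_psu ht hK hn3 ?_ e
    intro h0
    rw [CharP.cast_eq_zero_iff F p] at h0
    exact htp ((Nat.prime_dvd_prime_iff_eq h.prime ht).1 h0).symm

/-- **Row `PSU_n(q)`** (task 1510). -/
theorem row_psu (h : Cfg p d b L V S π ρ) (hd : 3 ≤ d) (hR : Rel p d r R) (hr : r ∣ Nat.card S)
    {t : ℕ} (ht : t.Prime) (htp : t ≠ p) {K : Type} [Field K] [Fintype K] [CharP K t] {n q : ℕ}
    (hK : Fintype.card K = q ^ 2) (hn3 : 3 ≤ n) (hnq : ¬ (n = 3 ∧ q = 2))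
    (e : S ≃* PSU n K q) (_hn : ¬ IsLieTypeChar p S) : False :=
  row_psu_of h hd hR hr ht htp (fun _ hcop hB => H868.HerBridge.le_of_bd h ht htp hcop hB) hK hn3 hnq e

end Cfsg.Agent.H211.Her.PSU
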