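import Cfsg.Agent.H50.HerRel
import Cfsg.Agent.H50.HerNum

/-!
# Hering's theorem: the unitary groups, arithmetic (task 1510, for S3695)
-/

set_option autoImplicit false
set_option maxRecDepth 100000

namespace Cfsg.Agent.H211.Her.PSU

open Cfsg.Agent.H50.Her

/-- the factors of the order of `GU_n(q)` -/
def fac (q i : ℕ) : ℕ := if Even i then q ^ (i + 1) + 1 else q ^ (i + 1) - 1

variable {n q r i : ℕ}

theorem succ_le_D (hq : 2 ≤ q) (hn : 3 ≤ n) (h3 : ¬ (n = 3 ∧ q = 2)) : q + 1 ≤ (q - 1) * q ^ (n - 2) := by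
  obtain ⟨c, rfl⟩ : ∃ c, q = c + 1 := ⟨q - 1, by omega⟩
  rw [Nat.add_sub_cancel]
  rcases Nat.lt_or_ge n 4 with h | h
  · obtain rfl : n = 3 := by omega
    have : 2 ≤ c := by omega
    rw [show 3 - 2 = 1 by norm_num, pow_one]
    nlinarith
  · have h1 : (c + 1) ^ 2 ≤ (c + 1) ^ (n - 2) := Nat.pow_le_pow_right (by omega) (by omega)
    have h2 : (c + 1) + 1 ≤ (c + 1) ^ 2 := by nlinarith
    have h3 : (c + 1) ^ (n - 2) ≤ c * (c + 1) ^ (n - 2) := Nat.le_mul_of_pos_left _ (by omega)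
    omega

theorem small_factor (hq : 2 ≤ q) (hn : 3 ≤ n) (h3 : ¬ (n = 3 ∧ q = 2)) (h4 : ¬ (n = 4 ∧ q = 2)) (hr : r.Prime)
    (hi : i < n) (hlast : Even i → i + 1 ≠ n) (h : r ∣ fac q i) : r ≤ (q - 1) * q ^ (n - 2) := by
  have hq1 := succ_le_D hq hn h3
  unfold fac at h
  split_ifs at h with hev
  · have hi1 : i + 1 ≤ n - 1 := by have := hlast hev; omega
    have hodd : Odd (i + 1) := hev.add_one
    have h5 : q + 1 ∣ q ^ (i + 1) + 1 := by
      have := hodd.nat_add_dvd_pow_add_pow q 1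
      rwa [one_pow] at this
    obtain ⟨Φ, hΦ⟩ := h5
    rw [hΦ] at h
    rcases hr.dvd_mul.1 h with h | h
    · exact (Nat.le_of_dvd (by omega) h).trans hq1
    · have hΦ0 : 0 < Φ := by
        rcases Nat.eq_zero_or_pos Φ with h0 | h0
        · rw [h0, mul_zero] at hΦ; omega
        · exact h0
      have h6 := Nat.le_of_dvd hΦ0 h
      have h7 : q ^ (i + 1) ≤ q ^ (n - 1) := Nat.pow_le_pow_right (by omega) hi1
      refine h6.trans ?_
      refine Nat.le_of_mul_le_mul_left ?_ (show 0 < q + 1 by omega)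
      rw [← hΦ]
      refine (Nat.add_le_add_right h7 1).trans ?_
      obtain ⟨c, rfl⟩ : ∃ c, q = c + 1 := ⟨q - 1, by omega⟩
      rw [Nat.add_sub_cancel, show n - 1 = (n - 2) + 1 by omega, pow_succ]
      have h8 : 1 ≤ (c + 1) ^ (n - 2) := Nat.one_le_pow _ _ (by omega)
      have h9 : 1 ≤ c := by omega
      obtain ⟨X, hX⟩ : ∃ X, X = (c + 1) ^ (n - 2) := ⟨_, rfl⟩
      rw [← hX] at h8 ⊢
      nlinarith [Nat.mul_le_mul h8 h9, Nat.mul_le_mul (le_refl X) h9,
        Nat.mul_le_mul (Nat.mul_le_mul (le_refl X) h9) h9]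
  · rw [Nat.not_even_iff_odd] at hev
    obtain ⟨j, hj⟩ : ∃ j, i + 1 = 2 * j := by
      obtain ⟨a, ha⟩ := hev
      exact ⟨a + 1, by omega⟩
    have hj0 : 0 < j := by omega
    have h5 : q ^ (i + 1) - 1 = (q ^ j + 1) * (q ^ j - 1) := by
      rw [hj, ← Nat.sq_sub_sq, one_pow, ← pow_mul, mul_comm]
    have hqj : 1 < q ^ j := Nat.one_lt_pow hj0.ne' (by omega)
    have h6 : r ≤ q ^ j + 1 := by
      rw [h5] at h
      rcases hr.dvd_mul.1 h with h | h
      · exact Nat.le_of_dvd (by omega) h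
      · have := Nat.le_of_dvd (by omega) h
        omega
    refine h6.trans ?_
    rcases Nat.lt_or_ge n 5 with hn5 | hn5
    · obtain rfl | rfl : n = 3 ∨ n = 4 := by omega
      · obtain rfl : j = 1 := by omega
        simpa using hq1
      · have hj2 : j ≤ 2 := by omega
        have h7 : q ^ j ≤ q ^ 2 := Nat.pow_le_pow_right (by omega) hj2
        rw [show 4 - 2 = 2 by norm_num]
        have h8 : 2 * q ^ 2 ≤ (q - 1) * q ^ 2 := Nat.mul_le_mul_right _ (by omega)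
        have h9 : 1 ≤ q ^ 2 := Nat.one_le_pow _ _ (by omega)
        omega
    · have h7 : q ^ j ≤ q ^ (n - 3) := Nat.pow_le_pow_right (by omega) (by omega)
      have h8 : 2 * q ^ (n - 3) ≤ q ^ (n - 2) := by
        rw [show n - 2 = (n - 3) + 1 by omega, pow_succ, mul_comm]
        exact Nat.mul_le_mul_left _ hq
      have h9 : 1 ≤ q ^ (n - 3) := Nat.one_le_pow _ _ (by omega)
      have h10 : q ^ (n - 2) ≤ (q - 1) * q ^ (n - 2) := Nat.le_mul_of_pos_left _ (by omega)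
      omega

theorem last_factor (hq : 2 ≤ q) (hn : 3 ≤ n) (h3 : ¬ (n = 3 ∧ q = 2)) (hr : r.Prime) (hodd : Odd n)
    (h : r ∣ q ^ n + 1) (hlt : (q - 1) * q ^ (n - 2) < r) : q ^ n + 1 = (q + 1) * r := by
  have hq1 := succ_le_D hq hn h3
  have h5 : q + 1 ∣ q ^ n + 1 := by
    have := hodd.nat_add_dvd_pow_add_pow q 1
    rwa [one_pow] at this
  obtain ⟨Φ, hΦ⟩ := h5
  rw [hΦ] at h
  rcases hr.dvd_mul.1 h with h | h
  · have := Nat.le_of_dvd (by omega) h
    omega
  · obtain ⟨k, hk⟩ := h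
    have hk1 : k = 1 := by
      have hk0 : k ≠ 0 := by
        rintro rfl
        rw [mul_zero] at hk
        rw [hk, mul_zero] at hΦ
        omega
      by_contra hne
      have hk2 : 2 ≤ k := by omega
      have h6 : (q + 1) * (r * 2) ≤ q ^ n + 1 := by
        rw [hΦ, hk]
        exact Nat.mul_le_mul_left _ (Nat.mul_le_mul_left _ hk2)
      have h7 : (q + 1) * (((q - 1) * q ^ (n - 2) + 1) * 2) ≤ (q + 1) * (r * 2) :=
        Nat.mul_le_mul_left _ (Nat.mul_le_mul_right _ hlt)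
      have h8 := h7.trans h6
      obtain ⟨c, rfl⟩ : ∃ c, q = c + 1 := ⟨q - 1, by omega⟩
      rw [Nat.add_sub_cancel] at h8
      rw [show n = (n - 2) + 2 by omega, Nat.add_sub_cancel, pow_add] at h8
      obtain ⟨X, hX⟩ : ∃ X, X = (c + 1) ^ (n - 2) := ⟨_, rfl⟩
      rw [← hX] at h8
      have h9 : 1 ≤ c := by omega
      have h10 : X * (c + 1) ^ 2 = X * c ^ 2 + 2 * (X * c) + X := by ring
      have h11 : (c + 1 + 1) * ((c * X + 1) * 2) = 2 * (X * c ^ 2) + 4 * (X * c) + 2 * c + 4 := by ring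
      rw [h10, h11] at h8
      have h12 : X ≤ X * c := Nat.le_mul_of_pos_right _ (by omega)
      omega
    rw [hk1, mul_one] at hk
    rw [hΦ, hk]

/-- `2 D + 1 ≤ r` is impossible -/
theorem not_two_D (hq : 2 ≤ q) (hn : 3 ≤ n) (h : q ^ n + 1 = (q + 1) * r)
    (hle : 2 * ((q - 1) * q ^ (n - 2)) + 1 ≤ r) : False := by
  have h1 : (q + 1) * (2 * ((q - 1) * q ^ (n - 2)) + 1) ≤ q ^ n + 1 := by
    rw [h]; exact Nat.mul_le_mul_left _ hle
  obtain ⟨c, rfl⟩ : ∃ c, q = c + 1 := ⟨q - 1, by omega⟩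
  rw [Nat.add_sub_cancel] at h1
  rw [show n = (n - 2) + 2 by omega, Nat.add_sub_cancel, pow_add] at h1
  obtain ⟨X, hX⟩ : ∃ X, X = (c + 1) ^ (n - 2) := ⟨_, rfl⟩
  rw [← hX] at h1
  have h10 : X * (c + 1) ^ 2 = X * c ^ 2 + 2 * (X * c) + X := by ring
  have h11 : (c + 1 + 1) * (2 * (c * X) + 1) = 2 * (X * c ^ 2) + 4 * (X * c) + c + 2 := by ring
  rw [h10, h11] at h1
  have h12 : X ≤ X * c := Nat.le_mul_of_pos_right _ (by omega)
  omega

/-- the exceptional pairs -/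
theorem exc_cases {p d t f : ℕ} (ht : t.Prime) (htp : t ≠ p) (hf : 1 ≤ f) (hqt : q = t ^ f) (hn : 3 ≤ n)
    (h3 : ¬ (n = 3 ∧ q = 2)) (hodd : Odd n) (hE : Exc p d) (h : q ^ n + 1 = (q + 1) * (d + 1)) :
    n = 3 ∧ q = 3 ∧ p = 5 ∧ d = 6 := by
  have ht2 := ht.two_le
  have hq : 2 ≤ q := by
    rw [hqt]
    exact ht2.trans (Nat.le_self_pow (by omega) t)
  have hd18 : d ≤ 18 := by
    rcases hE with ⟨-, h | h | h⟩ | ⟨h, -⟩ <;> omega
  have hcube : q ^ 3 ≤ q ^ n := Nat.pow_le_pow_right (by omega) hn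
  have hq4 : q ≤ 4 := by
    by_contra hcon
    push Not at hcon
    have h1 : q ^ 3 + 1 ≤ (q + 1) * 19 := by
      calc q ^ 3 + 1 ≤ q ^ n + 1 := by omega
        _ = (q + 1) * (d + 1) := h
        _ ≤ _ := Nat.mul_le_mul_left _ (by omega)
    have h2 : 25 * q ≤ q ^ 3 := by
      have : q ^ 3 = q * q * q := by ring
      rw [this]
      exact Nat.mul_le_mul_right _ (Nat.mul_le_mul hcon hcon)
    omega
  have hn6 : n ≤ 6 := by
    by_contra hcon
    push Not at hcon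
    have h1 : 2 ^ 7 ≤ q ^ n := (Nat.pow_le_pow_left hq 7).trans (Nat.pow_le_pow_right (by omega) hcon)
    have h2 : (q + 1) * (d + 1) ≤ 5 * 19 := Nat.mul_le_mul (by omega) (by omega)
    omega
  have hnn : n = 3 ∨ n = 5 := by
    obtain ⟨a, ha⟩ := hodd
    omega
  have hdd : d = 10 ∨ d = 12 ∨ d = 18 ∨ d = 6 := by
    rcases hE with ⟨-, h | h | h⟩ | ⟨h, -⟩ <;> omega
  -- `q = 2, 4` gives `t = 2`
  have hqt2 : ∀ k, q = 2 ^ k → t = 2 := by
    intro k hk
    have h1 : t ∣ 2 ^ k := by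
      rw [← hk, hqt]
      exact dvd_pow_self t (by omega)
    exact (Nat.prime_dvd_prime_iff_eq ht Nat.prime_two).1 (ht.dvd_of_dvd_pow h1)
  have hqt3 : q = 3 → t = 3 := by
    intro hk
    have h1 : t ∣ 3 := by
      rw [← hk, hqt]
      exact dvd_pow_self t (by omega)
    exact (Nat.prime_dvd_prime_iff_eq ht Nat.prime_three).1 h1
  rcases hnn with rfl | rfl
  · interval_cases q
    · omega
    · rcases hdd with rfl | rfl | rfl | rfl
      · omega
      · omega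
      · omega
      · have := hqt3 rfl
        rcases hE with ⟨-, h | h | h⟩ | ⟨-, h | h⟩
        · omega
        · omega
        · omega
        · omega
        · exact ⟨rfl, rfl, h, rfl⟩
    · rcases hdd with rfl | rfl | rfl | rfl
      · omega
      · have := hqt2 2 rfl
        rcases hE with ⟨h, -⟩ | ⟨h, -⟩
        · omega
        · omega
      · omega
      · omega
  · interval_cases q
    · rcases hdd with rfl | rfl | rfl | rfl
      · have := hqt2 1 rfl
        rcases hE with ⟨h, -⟩ | ⟨h, -⟩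
        · omega
        · omega
      · omega
      · omega
      · omega
    · rcases hdd with rfl | rfl | rfl | rfl <;> omega
    · rcases hdd with rfl | rfl | rfl | rfl <;> omega

/-- `PSU_4(3)` -/
theorem num_psu43 {p d b r R m' : ℕ} (hp : p.Prime) (hd : 3 ≤ d) (hL : Large p d r R) (hr : r ∣ 3265920)
    (hm' : m' ∣ 26127360) (hb : 0 < b) (hbd : b ∣ d) (hlt : b < d)
    (h3 : p ^ d - 1 ∣ (p ^ b - 1) * m') (h4 : 3265920 ∣ glCard p d) : (p, d) ∈ ([] : List (ℕ × ℕ)) :=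
  no_of_check (fs := [(2, 10), (3, 6), (5, 1), (7, 1)])
    (xs := [(3, 5)]) (ex := [])
    (by decide +kernel) (by decide +kernel) (by decide +kernel) (by decide +kernel) (by decide +kernel)
    hp hd hL hr (by norm_num) hm' hb hbd hlt h3 h4

/-- `PSU_6(2)` -/
theorem num_psu62 {p d b r R m' : ℕ} (hp : p.Prime) (hd : 3 ≤ d) (hL : Large p d r R) (hr : r ∣ 9196830720)
    (hm' : m' ∣ 55180984320) (hb : 0 < b) (hbd : b ∣ d) (hlt : b < d)
    (h3 : p ^ d - 1 ∣ (p ^ b - 1) * m') (h4 : 9196830720 ∣ glCard p d) : (p, d) ∈ ([] : List (ℕ × ℕ)) :=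
  no_of_check (fs := [(2, 16), (3, 7), (5, 1), (7, 1), (11, 1)])
    (xs := [(3, 5), (5, 3)]) (ex := [])
    (by decide +kernel) (by decide +kernel) (by decide +kernel) (by decide +kernel) (by decide +kernel)
    hp hd hL hr (by norm_num) hm' hb hbd hlt h3 h4

end Cfsg.Agent.H211.Her.PSU
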